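import Mathlib
import Groth.Prelude.Def_AffAlg

/-!
# Morphisms into a scheme affine over the base are algebra homomorphisms
-/

set_option autoImplicit false
universe u

open CategoryTheory CategoryTheory.Limits AlgebraicGeometry TopologicalSpace Opposite

namespace Groth.Agent.AffAlgBij

variable {X Y S : Scheme.{u}} (f : X ⟶ S) (g : Y ⟶ S)

theorem le_preimage {h : Y ⟶ X} (w : h ≫ f = g) (U : S.Opens) : g ⁻¹ᵁ U ≤ h ⁻¹ᵁ (f ⁻¹ᵁ U) := by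
  subst w; exact le_rfl

theorem algHom_app (h : Y ⟶ X) (w : h ≫ f = g) (U : S.Opens) :
    (AffAlg.algHom f g h w).app (op U) = h.appLE (f ⁻¹ᵁ U) (g ⁻¹ᵁ U) (le_preimage f g w U) := by
  subst w
  simp only [AffAlg.algHom, eqToHom_refl, Category.comp_id]
  exact h.appLE_eq_app.symm

/-- the candidate morphism on `g⁻¹U` -/
noncomputable def loc [IsAffineHom f] {U : S.Opens} (hU : IsAffineOpen U)
    (φ : Γ(X, f ⁻¹ᵁ U) ⟶ Γ(Y, g ⁻¹ᵁ U)) : (g ⁻¹ᵁ U : Scheme.{u}) ⟶ X :=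
  (g ⁻¹ᵁ U).toSpecΓ ≫ Spec.map φ ≫ (hU.preimage f).fromSpec

theorem ι_comp_eq_loc [IsAffineHom f] (h : Y ⟶ X) (w : h ≫ f = g) {U : S.Opens} (hU : IsAffineOpen U) :
    (g ⁻¹ᵁ U).ι ≫ h = loc f g hU ((AffAlg.algHom f g h w).app (op U)) := by
  rw [loc, algHom_app, ← Category.assoc, Scheme.Opens.toSpecΓ_SpecMap_appLE, Category.assoc,
    IsAffineOpen.toSpecΓ_fromSpec, Scheme.Hom.resLE_comp_ι]

theorem loc_injective [IsAffineHom f] {U : S.Opens} (hU : IsAffineOpen U)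
    {φ ψ : Γ(X, f ⁻¹ᵁ U) ⟶ Γ(Y, g ⁻¹ᵁ U)} (h : loc f g hU φ = loc f g hU ψ) : φ = ψ := by
  have h1 : (g ⁻¹ᵁ U).toSpecΓ ≫ Spec.map φ = (g ⁻¹ᵁ U).toSpecΓ ≫ Spec.map ψ := by
    rw [← cancel_mono (hU.preimage f).fromSpec, Category.assoc, Category.assoc]
    exact h
  have h2 := congrArg Scheme.Hom.appTop h1
  rw [Scheme.Hom.comp_appTop, Scheme.Hom.comp_appTop, Scheme.Opens.toSpecΓ_appTop,
    Scheme.ΓSpecIso_naturality_assoc, Scheme.ΓSpecIso_naturality_assoc, cancel_epi, cancel_mono] at h2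
  exact h2

theorem injective_algOf [IsAffineHom f] : Function.Injective (AffAlg.algOf f g) := by
  intro a b hab
  refine Subtype.ext ?_
  have hω : AffAlg.algHom f g a.1 a.2 = AffAlg.algHom f g b.1 b.2 := congrArg Subtype.val hab
  have hcov : TopologicalSpace.IsOpenCover (fun U : S.affineOpens => g ⁻¹ᵁ U.1) := by
    rw [TopologicalSpace.IsOpenCover, ← Scheme.Hom.preimage_iSup, iSup_affineOpens_eq_top]
    rfl
  refine Scheme.Cover.hom_ext (Y.openCoverOfIsOpenCover _ hcov) _ _ fun U => ?_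
  show (g ⁻¹ᵁ U.1).ι ≫ a.1 = (g ⁻¹ᵁ U.1).ι ≫ b.1
  rw [ι_comp_eq_loc f g a.1 a.2 U.2, ι_comp_eq_loc f g b.1 b.2 U.2, hω]

theorem surjective_algOf [IsAffineHom f] : Function.Surjective (AffAlg.algOf f g) := by
  rintro ⟨ω, hω⟩
  let ωU : ∀ U : S.Opens, Γ(X, f ⁻¹ᵁ U) ⟶ Γ(Y, g ⁻¹ᵁ U) := fun U => ω.app (op U)
  have hfω : ∀ U : S.Opens, f.app U ≫ ωU U = g.app U := fun U =>
    congrArg (fun η => NatTrans.app η (op U)) hω
  have hnat : ∀ {U U' : S.Opens} (hU : IsAffineOpen U) (hU' : IsAffineOpen U') (hle : U' ≤ U),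
      Y.homOfLE (g.preimage_mono hle) ≫ loc f g hU (ωU U) = loc f g hU' (ωU U') := by
    intro U U' hU hU' hle
    have h1 : ωU U ≫ Y.presheaf.map (homOfLE (g.preimage_mono hle)).op =
        X.presheaf.map (homOfLE (f.preimage_mono hle)).op ≫ ωU U' := (ω.naturality (homOfLE hle).op).symm
    rw [loc, loc, ← Scheme.Opens.toSpecΓ_SpecMap_presheaf_map_assoc _ _ (g.preimage_mono hle),
      ← Spec.map_comp_assoc, h1, Spec.map_comp_assoc,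
      (hU.preimage f).map_fromSpec (hU'.preimage f) (homOfLE (f.preimage_mono hle)).op]
  have hcov : TopologicalSpace.IsOpenCover (fun U : S.affineOpens => g ⁻¹ᵁ U.1) := by
    rw [TopologicalSpace.IsOpenCover, ← Scheme.Hom.preimage_iSup, iSup_affineOpens_eq_top]
    rfl
  let 𝒰 := Y.openCoverOfIsOpenCover _ hcov
  let m : ∀ U : S.affineOpens, (g ⁻¹ᵁ U.1 : Scheme.{u}) ⟶ X := fun U => loc f g U.2 (ωU U.1)
  have hcompat : ∀ i j, pullback.fst (𝒰.f i) (𝒰.f j) ≫ m i = pullback.snd (𝒰.f i) (𝒰.f j) ≫ m j := by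
    intro i j
    let P := pullback (𝒰.f i) (𝒰.f j)
    let t : P ⟶ Y := pullback.fst (𝒰.f i) (𝒰.f j) ≫ 𝒰.f i
    let J := {V : S.affineOpens // V.1 ≤ i.1 ⊓ j.1}
    have hP : TopologicalSpace.IsOpenCover (fun V : J => t ⁻¹ᵁ (g ⁻¹ᵁ V.1.1)) := by
      refine TopologicalSpace.IsOpenCover.mk ?_
      rw [eq_top_iff]
      intro p _
      have hi : g (t p) ∈ i.1 := (pullback.fst (𝒰.f i) (𝒰.f j) p).2
      have ht : t = pullback.snd (𝒰.f i) (𝒰.f j) ≫ 𝒰.f j := pullback.condition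
      have hj : g (t p) ∈ j.1 := by
        rw [ht]
        exact (pullback.snd (𝒰.f i) (𝒰.f j) p).2
      obtain ⟨_, ⟨V, hV, rfl⟩, hpV, hVle⟩ :=
        S.isBasis_affineOpens.exists_subset_of_mem_open (show g (t p) ∈ ((i.1 ⊓ j.1 : S.Opens) : Set S) from ⟨hi, hj⟩) (i.1 ⊓ j.1).2
      exact TopologicalSpace.Opens.mem_iSup.2 ⟨⟨⟨V, hV⟩, hVle⟩, hpV⟩
    refine Scheme.Cover.hom_ext (P.openCoverOfIsOpenCover _ hP) _ _ fun V => ?_
    show (t ⁻¹ᵁ (g ⁻¹ᵁ V.1.1)).ι ≫ _ = (t ⁻¹ᵁ (g ⁻¹ᵁ V.1.1)).ι ≫ _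
    have key : ∀ (k : S.affineOpens) (hk : V.1.1 ≤ k.1) (p : P ⟶ (g ⁻¹ᵁ k.1 : Scheme.{u})),
        p ≫ 𝒰.f k = t → (t ⁻¹ᵁ (g ⁻¹ᵁ V.1.1)).ι ≫ p ≫ m k =
          t.resLE (g ⁻¹ᵁ V.1.1) (t ⁻¹ᵁ (g ⁻¹ᵁ V.1.1)) le_rfl ≫ m V.1 := by
      intro k hk p hp
      have h1 : (t ⁻¹ᵁ (g ⁻¹ᵁ V.1.1)).ι ≫ p =
          t.resLE (g ⁻¹ᵁ V.1.1) (t ⁻¹ᵁ (g ⁻¹ᵁ V.1.1)) le_rfl ≫ Y.homOfLE (g.preimage_mono hk) := by
        rw [← cancel_mono (g ⁻¹ᵁ k.1).ι, Category.assoc, Category.assoc, Scheme.homOfLE_ι,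
          Scheme.Hom.resLE_comp_ι]
        rw [show p ≫ (g ⁻¹ᵁ k.1).ι = t from hp]
      rw [reassoc_of% h1, hnat k.2 V.1.2 hk]
    exact (key i (V.2.trans inf_le_left) (pullback.fst (𝒰.f i) (𝒰.f j)) rfl).trans
      (key j (V.2.trans inf_le_right) (pullback.snd (𝒰.f i) (𝒰.f j)) pullback.condition.symm).symm
  let h : Y ⟶ X := 𝒰.glueMorphisms m hcompat
  have hι : ∀ U : S.affineOpens, (g ⁻¹ᵁ U.1).ι ≫ h = loc f g U.2 (ωU U.1) := fun U =>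
    Scheme.Cover.ι_glueMorphisms 𝒰 m hcompat U
  have w : h ≫ f = g := by
    refine Scheme.Cover.hom_ext 𝒰 _ _ fun U => ?_
    show (g ⁻¹ᵁ U.1).ι ≫ h ≫ f = (g ⁻¹ᵁ U.1).ι ≫ g
    rw [reassoc_of% hι U, loc, Category.assoc, Category.assoc,
      ← IsAffineOpen.SpecMap_appLE_fromSpec f U.2 (U.2.preimage f) le_rfl, ← Spec.map_comp_assoc,
      Scheme.Hom.appLE_eq_app, hfω, ← Scheme.Hom.appLE_eq_app, ← Category.assoc,
      Scheme.Opens.toSpecΓ_SpecMap_appLE, Category.assoc, IsAffineOpen.toSpecΓ_fromSpec,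
      Scheme.Hom.resLE_comp_ι]
  refine ⟨⟨h, w⟩, Subtype.ext ?_⟩
  show AffAlg.algHom f g h w = ω
  refine TopCat.Sheaf.hom_ext (F := AffAlg.alg f)
    (F' := (TopCat.Sheaf.pushforward CommRingCat.{u} g.base).obj Y.sheaf)
    (B := fun U : S.affineOpens => U.1) ?_ fun U => ?_
  · have hb := S.isBasis_affineOpens
    rwa [← Subtype.range_coe (s := S.affineOpens)] at hb
  · refine loc_injective f g U.2 ?_
    rw [← ι_comp_eq_loc f g h w U.2]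
    exact hι U

end Groth.Agent.AffAlgBij
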